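import Cfsg.Agent.Lib.C3.Co2

/-!
# S5227: the model `Co₀` (see notes/C3.md)
-/

set_option autoImplicit false
set_option linter.unusedSimpArgs false
set_option linter.unusedVariables false

namespace Cfsg.Agent.C3

open Subgroup Cfsg H2 H8 Finset

variable {ι : US →* Co0} (hι : ∀ x i, aH (ι x) (vL i) = vL (x • i))

theorem smul_J {x : US} (hx : x ∈ JJ) (s : Option F3) (t k : F3) :
    x • ((s, t, k) : PI) = (s, t, k + lam s t x) := by
  rcases s with _ | s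
  · show (none, t - x.b, k + lam none (t - x.b) x) = _
    simp [hx.2.1]
  · show (some (s - x.a), t - x.b * (s - x.a) - x.d,
      k + lam (some (s - x.a)) (t - x.b * (s - x.a) - x.d) x) = _
    simp [hx.1, hx.2.1, hx.2.2]

theorem dot_sum (y : GolayPt → ℤ) (s : Option F3) (t : F3) :
    dotInt y (vv (s, t, 0)) + dotInt y (vv (s, t, 1)) + dotInt y (vv (s, t, 2)) = 0 := by
  simp only [dotInt, ← sum_add_distrib, ← mul_add, vv_sum, mul_zero, sum_const_zero]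

theorem vL_dot (i j : PI) : dotInt (vL i).1 (vv j) = Gr i j := vv_dot i j

theorem smul_dot (n : ℤ) (x : leechLattice) (y : GolayPt → ℤ) :
    dotInt (n • x).1 y = n * dotInt x.1 y := by
  simp only [dotInt, mul_sum, AddSubgroupClass.coe_zsmul, Pi.smul_apply, smul_eq_mul, mul_assoc]

include hι

theorem conj_S {ε : PI → ℤ} {σ : PI → PI} (h : chkS ε σ) : ∃ g : Co0, ∀ x y : US,
    (∀ i, ε (x • i) = ε i ∧ y • σ i = σ (x • i)) → ι y * g = g * ι x :=
  (exists_S h).imp fun g e x y k => ext_frame fun i => by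
    rw [aH_mul, aH_mul, e, map_zsmul, hι, hι, e, (k i).1, (k i).2]

theorem conj_3 : ∃ g : Co0, ∀ r ∈ [1, xa 1, xb 1, xd 1, xe 1, xf 1, xg 1, xh 1, xz 1],
    ι (n3 r) * g = g * ι r := by
  obtain ⟨g, e⟩ := exists_g (fun i => mem_of_chk (w3_chk i)) w3_dot w3_9
  have k : ∀ r ∈ [1, xa 1, xb 1, xd 1, xe 1, xf 1, xg 1, xh 1, xz 1], ∀ i,
      (3 : ℤ) • aH g (vL (r • i)) = ∑ u, (vL (n3 r • i3 i u 2) - vL (n3 r • i3 i u 1)) :=
    fun r hr i => Subtype.ext (funext fun a => by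
      have := congrFun (e (r • i)) a
      simpa [vL, aH, ← this] using (w3_cj r hr i a).symm)
  refine ⟨g, fun r hr => ext_frame fun i => cancel (n := 3) (by decide) ?_⟩
  have k1 := k 1 (by simp) i
  rw [show n3 1 = 1 by decide] at k1
  simp only [one_smul] at k1
  rw [aH_mul, aH_mul, hι, k r hr, ← map_zsmul, k1, map_sum]
  simp only [map_sub, hι]

theorem orth {x : US} (hx : x ∈ JJ) {y : leechLattice} (h : aH (ι x) y = y) {s : Option F3} {t : F3}
    (hl : lam s t x ≠ 0) (k : F3) : dotInt y.1 (vv (s, t, k)) = 0 := by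
  have e : ∀ k, dotInt y.1 (vv (s, t, k + lam s t x)) = dotInt y.1 (vv (s, t, k)) := fun k => by
    have := aH_dot (ι x) y (vL (s, t, k))
    rwa [h, hι, smul_J hx] at this
  have h0 := dot_sum y.1 s t
  have h1 := e 0
  have h2 := e 1
  have h3 := e 2
  have : ∀ l k : F3, l ≠ 0 → ((0 + l = 1 ∧ 1 + l = 2) ∨ (1 + l = 0 ∧ 2 + l = 1)) ∧
      (k = 0 ∨ k = 1 ∨ k = 2) := by decide
  obtain ⟨⟨k1, k2⟩ | ⟨k1, k2⟩, rfl | rfl | rfl⟩ := this _ k hl <;>
    first | (rw [k1] at h1; rw [k2] at h2; omega) | (rw [k1] at h2; rw [k2] at h3; omega)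

theorem cent_mon {g : Co0} (h : ∀ x ∈ JJ, g * ι x = ι x * g) (s : Option F3) (t : F3) :
    ∃ ε : ℤ, (ε = 1 ∨ ε = -1) ∧ ∃ m, ∀ k, aH g (vL (s, t, k)) = ε • vL (s, t, k + m) := by
  have h1 : ∀ x ∈ JJ, ∀ k, aH (ι x) (aH g (vL (s, t, k))) = aH g (vL (s, t, k + lam s t x)) :=
    fun x hx k => by rw [← aH_mul, ← h x hx, aH_mul, hι, smul_J hx]
  have h2 : ∀ s' t' k, (s, t) ≠ (s', t') → dotInt (aH g (vL (s, t, 0))).1 (vv (s', t', k)) = 0 :=
    fun s' t' k e => by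
      obtain ⟨x, -, hx, l1, l2⟩ := lam_sep s t s' t' e
      exact orth hι hx (by rw [h1 x hx, l1, add_zero]) l2 k
  have h3 : sqNorm (aH g (vL (s, t, 0))).1 = 48 := (g.2.2 _).trans (by
    simpa [sqNorm, dotInt, Gr, pow_two, vL] using vv_dot (s, t, 0) (s, t, 0))
  obtain ⟨ε, hε, m, e⟩ : ∃ ε : ℤ, (ε = 1 ∨ ε = -1) ∧ ∃ m,
      aH g (vL (s, t, 0)) = ε • vL (s, t, m) := by
    generalize aH g (vL (s, t, 0)) = y at h2 h3
    have h4 := norm_dot y.1
    rw [h3, Fintype.sum_prod_type, sum_eq_single s (fun s' _ e => sum_eq_zero fun i _ => by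
      rw [h2 _ _ _ fun k => e (congrArg Prod.fst k).symm]; rfl) (by simp), Fintype.sum_prod_type,
      sum_eq_single t (fun t' _ e => sum_eq_zero fun i _ => by
        rw [h2 _ _ _ fun k => e (congrArg Prod.snd k).symm]; rfl) (by simp)] at h4
    replace h4 : 72 * 48 = dotInt y.1 (vv (s, t, 0)) ^ 2 + dotInt y.1 (vv (s, t, 1)) ^ 2 +
      dotInt y.1 (vv (s, t, 2)) ^ 2 := h4.trans (Fin.sum_univ_three _)
    have h5 := dot_sum y.1 s t
    obtain ⟨a, ha⟩ : 8 ∣ dotInt y.1 (vv (s, t, 0)) := Int.dvd_of_emod_eq_zero (dot8 y (vL _))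
    obtain ⟨b, hb⟩ : 8 ∣ dotInt y.1 (vv (s, t, 1)) := Int.dvd_of_emod_eq_zero (dot8 y (vL _))
    have hc : dotInt y.1 (vv (s, t, 2)) = -8 * (a + b) := by omega
    rw [ha, hb, hc] at h4
    have : ∃ ε : ℤ, (ε = 1 ∨ ε = -1) ∧ ∃ m : F3, 8 * a = ε * (if m = 0 then 48 else -24) ∧
        8 * b = ε * (if m = 1 then 48 else -24) ∧ -8 * (a + b) = ε * (if m = 2 then 48 else -24) := by
      have a1 : -7 < a := by nlinarith [sq_nonneg (a + 2 * b)]
      have a2 : a < 7 := by nlinarith [sq_nonneg (a + 2 * b)]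
      have b1 : -7 < b := by nlinarith [sq_nonneg (b + 2 * a)]
      have b2 : b < 7 := by nlinarith [sq_nonneg (b + 2 * a)]
      clear ha hb hc
      simp only [or_and_right, exists_or, exists_eq_left]
      interval_cases a <;> interval_cases b <;> revert h4 <;> decide
    obtain ⟨ε, hε, m, e0, e1, e2⟩ := this
    refine ⟨ε, hε, m, ext_dot fun ⟨s', t', k⟩ => ?_⟩
    rw [smul_dot, vL_dot]
    by_cases e : (s, t) = (s', t')
    · obtain ⟨rfl, rfl⟩ := Prod.mk.inj e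
      have : k = 0 ∨ k = 1 ∨ k = 2 := by revert k; decide
      rcases this with rfl | rfl | rfl <;> simp [Gr, *]
    · rw [h2 _ _ _ e, Gr, if_neg fun k => e (Prod.ext k.1 k.2), mul_zero]
  refine ⟨ε, hε, m, fun k => ?_⟩
  obtain ⟨x, hx, l⟩ : ∃ x ∈ JJ, lam s t x = k := by
    rcases s with _ | s
    · exact ⟨xg k, ⟨rfl, rfl, rfl⟩, by simp [lam]⟩
    · exact ⟨xz k, ⟨rfl, rfl, rfl⟩, by simp [lam]⟩
  rw [← zero_add k, ← l, ← h1 x hx, e, map_zsmul, hι, smul_J hx, zero_add, add_comm]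

theorem cent_mem {g : Co0} {n : ℕ} (hn : g ^ 3 ^ n = 1) (h : ∀ x ∈ JJ, g * ι x = ι x * g) :
    g ∈ ι.range := by
  have h1 : ∀ s t, ∃ m, ∀ k, aH g (vL (s, t, k)) = vL (s, t, k + m) := fun s t => by
    obtain ⟨ε, rfl | rfl, m, e⟩ := cent_mon hι h s t
    · exact ⟨m, fun k => (e k).trans (one_smul _ _)⟩
    have k1 : ∀ l : ℕ, aH (g ^ l) (vL (s, t, 0)) = (-1 : ℤ) ^ l • vL (s, t, l * m) := fun l => by
      induction l with
      | zero => simp [aH_one]
      | succ l ih => rw [pow_succ', aH_mul, ih, map_zsmul, e, smul_smul, pow_succ]; simp [add_mul]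
    have k2 := congrArg (fun y : leechLattice => dotInt y.1 (vv (s, t, 0))) (k1 (3 ^ n))
    simp only [hn, aH_one, smul_dot, vL_dot, (Odd.pow (by decide : Odd 3)).neg_one_pow, Gr] at k2
    split_ifs at k2 <;> simp_all
  choose μ hμ using h1
  obtain ⟨j, hj, e⟩ : ∃ j ∈ JJ, ∀ i, Inf i → lam i.1 i.2.1 j = μ i.1 i.2.1 := by
    refine ⟨⟨0, 0, μ none 0 - (μ none 1 + μ none (-1) - μ none 0), 0, μ none 1 - μ none (-1),
      μ (some 0) 0 + (μ none 0 - (μ none 1 + μ none (-1) - μ none 0)) - μ (some 0) 1,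
      μ none 1 + μ none (-1) - μ none 0,
      μ (some 0) 0 + (μ none 1 + μ none (-1) - μ none 0) - μ (some 1) 0, μ (some 0) 0⟩,
      ⟨rfl, rfl, rfl⟩, ?_⟩
    rintro ⟨s, t, k⟩ (h | ⟨h, h'⟩ | ⟨h, h'⟩) <;> simp only at * <;> subst h <;>
      rcases f3_cases t with rfl | rfl | rfl <;> simp [lam] at * <;> rw [← sub_eq_zero] <;> ring_nf <;>
      simp [h3, show (6 : F3) = 0 from rfl]
  have h2 : ∀ s t k, aH ((ι j)⁻¹ * g) (vL (s, t, k)) = vL (s, t, k + (μ s t - lam s t j)) :=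
    fun s t k => by
      rw [aH_mul, hμ, ← map_inv, hι, (inv_smul_eq_iff (b := (s, t, k + (μ s t - lam s t j)))).2
        (by rw [smul_J hj]; congr 2; ring)]
  have h3 : ∀ i, Inf i → aH ((ι j)⁻¹ * g) (vL i) = vL i := fun ⟨s, t, k⟩ hi => by
    rw [h2, e _ hi, sub_self, add_zero]
  refine ⟨j, (inv_mul_eq_one.1 (ext_frame fun ⟨s, t, k⟩ => ?_))⟩
  by_cases hi : Inf (s, t, k)
  · exact h3 _ hi
  obtain ⟨s, rfl⟩ := Option.ne_none_iff_exists'.1 fun e : s = none => hi (.inl e)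
  obtain ⟨c1, c2, c3, c4⟩ := cq_spec s t hi
  have k1 : (3 : ℤ) • (⟨_, mem_of_chk c3⟩ : leechLattice) = ∑ i, cq s t i • vL i :=
    Subtype.ext (funext fun a => by
      simpa [vL] using Int.mul_ediv_cancel' (Int.dvd_of_emod_eq_zero (c2 a)))
  generalize (⟨_, mem_of_chk c3⟩ : leechLattice) = X at k1
  have k2 : (3 : ℤ) • (aH ((ι j)⁻¹ * g) X - X) =
      aH ((ι j)⁻¹ * g) (vL (some s, t, 0)) - vL (some s, t, 0) := by
    rw [smul_sub, ← map_zsmul, k1, map_sum, ← sum_sub_distrib, sum_eq_single (some s, t, 0)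
      (fun i _ e => by
        by_cases hi : Inf i
        · rw [map_zsmul, h3 i hi, sub_self]
        · simp [c1 i hi, e]) (by simp), c1 (some s, t, 0) hi]
    simp
  have k3 := congrFun (congrArg Subtype.val k2) (some 0)
  rw [h2, zero_add] at k3
  rw [h2, c4 _ (Int.emod_eq_zero_of_dvd ⟨_, k3.symm⟩), add_zero, aH_one]

theorem conj_T {p q r : F3} (h1 : chkS 1 (sT p q r))
    (h2 : ∀ x ∈ [xa 1, xb 1, xc 1, xd 1, xe 1, xf 1, xg 1, xh 1, xz 1],
      ∀ i, tauF p q r x • sT p q r i = sT p q r (x • i)) :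
    ∃ g, ∀ x, ι (tauF p q r x) = g * ι x * g⁻¹ :=
  (conj_S hι h1).imp fun g e x => conj_of_gens (R := ⊤) (fun x _ y _ => tauF_mul p q r x y) trivial
    (fun r hr _ => e _ _ fun i => ⟨rfl, h2 _ (List.mem_map_of_mem (f := fun r : F3 → US => r 1) hr) i⟩)
    (.inr trivial) (.inr trivial) (.inr trivial) (.inr trivial) (.inr trivial) (.inr trivial)
    (.inr trivial) (.inr trivial) (.inr trivial)

theorem co_inj : Function.Injective ι := (injective_iff_map_eq_one ι).2 fun x hx => by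
  have h1 : ∀ i : PI, x • i = i := fun i => by
    have := congrArg (fun y : leechLattice => dotInt y.1 (vv i)) (hι x i)
    simp only [hx, aH_one, vL_dot, Gr] at this
    generalize x • i = j at this
    split_ifs at this <;> simp_all [Prod.ext_iff]
  have hb : x.b = 0 := by simpa using show (0 : F3) - x.b = 0 from congrArg (·.2.1) (h1 (none, 0, 0))
  have ha : x.a = 0 := by
    simpa using show some ((0 : F3) - x.a) = some 0 from congrArg (·.1) (h1 (some 0, 0, 0))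
  have hd : x.d = 0 := by
    simpa [hb] using show (0 : F3) - x.b * (0 - x.a) - x.d = 0 from congrArg (·.2.1) (h1 (some 0, 0, 0))
  have h2 : ∀ s t, lam s t x = 0 := fun s t => by simpa [smul_J ⟨ha, hb, hd⟩] using h1 (s, t, 0)
  have k1 := h2 none 0
  have k2 := h2 none 1
  have k3 := h2 none (-1)
  have k4 := h2 (some 0) 0
  have k5 := h2 (some 0) 1
  have k6 := h2 (some 1) 0
  obtain ⟨_, _, c, _, e, f, g, h, z⟩ := x
  obtain rfl : _ = 0 := ha
  obtain rfl : _ = 0 := hb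
  obtain rfl : _ = 0 := hd
  clear * - k1 k2 k3 k4 k5 k6
  revert c e f g h z
  decide +kernel

theorem co_m1 : ∃ g, ∀ x ∈ E1, ι (n1 1 x) = g * ι x * g⁻¹ := by
  have : ∀ x ∈ [xa 1, xb 1, xc 1, xd 1, xe 1, xf 1, xg 1, xh 1, xz 1], x.a = 0 →
    ∀ i, n1 1 x • s1 i = s1 (x • i) := by decide +kernel
  exact (conj_S hι chk_1).imp fun g e x hx => conj_of_gens (fun x hx y hy => n1_mul 1 hx hy) hx
    (fun r hr hr' => e _ _ fun i => ⟨rfl,
      this _ (List.mem_map_of_mem (f := fun r : F3 → US => r 1) hr) hr' i⟩)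
    (.inl hx) (.inr rfl) (.inr rfl) (.inr rfl) (.inr rfl) (.inr rfl) (.inr rfl) (.inr rfl) (.inr rfl)

theorem co_m2 : ∃ g, ∀ x ∈ E2, ι (n2 0 x) = g * ι x * g⁻¹ := by
  have : ∀ x ∈ [xa 1, xb 1, xc 1, xd 1, xe 1, xf 1, xg 1, xh 1, xz 1], x.b = 0 →
    ∀ i, e2 (x • i) = e2 i ∧ n2 0 x • s2 i = s2 (x • i) := by decide +kernel
  exact (conj_S hι chk_2).imp fun g e x hx => conj_of_gens (fun x hx y hy => n2_mul 0 hx hy) hx
    (fun r hr hr' => e _ _ (this _ (List.mem_map_of_mem (f := fun r : F3 → US => r 1) hr) hr'))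
    (.inr rfl) (.inl hx) (.inr rfl) (.inr rfl) (.inr rfl) (.inr rfl) (.inr rfl) (.inr rfl) (.inr rfl)

theorem co_m3 : ∃ g, ∀ x ∈ E3, ι (n3 x) = g * ι x * g⁻¹ := by
  have : ∀ x ∈ [xa 1, xb 1, xc 1, xd 1, xe 1, xf 1, xg 1, xh 1, xz 1], x.c = 0 →
    x ∈ [1, xa 1, xb 1, xd 1, xe 1, xf 1, xg 1, xh 1, xz 1] := by decide +kernel
  exact (conj_3 hι).imp fun g e x hx => conj_of_gens (fun x hx y hy => n3_mul hx hy) hx
    (fun r hr hr' => e _ (this _ (List.mem_map_of_mem (f := fun r : F3 → US => r 1) hr) hr'))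
    (.inr rfl) (.inr rfl) (.inl hx) (.inr rfl) (.inr rfl) (.inr rfl) (.inr rfl) (.inr rfl) (.inr rfl)

theorem co_nc : ¬ IsConj (ι (xc 1)) (ι (xc 1 * xz 1)) := fun h => by
  obtain ⟨g, e⟩ := isConj_iff.1 h
  have h1 : aH (ι (xc 1 * xz 1)) (aH g (vL (some 0, 0, 0))) = aH g (vL (some 0, 0, 0)) := by
    rw [← e, ← aH_mul, inv_mul_cancel_right, aH_mul, hι,
      show xc 1 • ((some 0, 0, 0) : PI) = (some 0, 0, 0) by decide]
  have h2 := norm_dot (aH g (vL (some 0, 0, 0))).1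
  have h4 : ∀ s t, lam s t (xc 1 * xz 1) ≠ 0 := by decide
  rw [sum_eq_zero fun ⟨s, t, k⟩ _ => by rw [orth hι ⟨rfl, rfl, rfl⟩ h1 (h4 s t)]; rfl] at h2
  have h3 : sqNorm (aH g (vL (some 0, 0, 0))).1 = 48 := (g.2.2 _).trans (by
    simpa [sqNorm, dotInt, Gr, pow_two, vL] using vv_dot (some 0, 0, 0) (some 0, 0, 0))
  omega

omit hι in
theorem exists_co : ∃ ι : US →* Co0, Mod 1 True ι :=
  let ⟨ι, hι⟩ := exists_ι
  ⟨ι, co_inj hι, co_m1 hι, co_m2 hι, co_m3 hι, conj_T hι chk_t1 (by decide +kernel),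
    conj_T hι chk_t2 (by decide +kernel), fun _ => conj_T hι chk_t3 (by decide +kernel),
    fun h => absurd trivial h, fun g n => cent_mem hι, co_nc hι⟩

end Cfsg.Agent.C3
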