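import Cfsg.Agent.Lib.C3.Mod
import Cfsg.Agent.Lib.H8.Leech

/-!
# S5227: a frame of twelve orthogonal hexagons in the Leech lattice (see notes/C3.md)
-/

set_option autoImplicit false
set_option linter.unusedSimpArgs false

namespace Cfsg.Agent.C3

open Subgroup Cfsg H2 H8

/-- twelve points with three vectors each -/
abbrev PI := Option F3 × F3 × F3

def ixI (i : PI) : ℕ := (i.1.elim 3 ZMod.val * 3 + i.2.1.val) * 3 + i.2.2.val

def vT : ℕ := 0x7bb999999999b99797979979b759999b7777777779797797668666648888688a88888888aa8888868a6a88688668a8a68688888868a8a6a868aa866a6888888aa6866a88aa866a88777999595959799797979979597999b59797977779797797c8a6668aa8a8888a88888888979779979959999799775579799779997797577775b99997886aa66888a8a88a8a68aa8897779b9799977599b777997979779599777b997999b9779788aa686888868a86486888889b79797777997999977b597977797979bb77977979b7979786a6a6a8668888868866a888799997997b9957b97977779788666a6886aaa866888688889799979797559979979b997977779779b77997b77579799786aa6aa8688a886a8a888a889b779777799579779997957979775999777799b99979b79788aa866888888466a88868889777b99799997b7957977979aa888886866886a86aa68a88868888886aa6aa88a68868a66888888aa88a6868886aa66a799799797777977b77777755886a66a888888888868688ac97979977999979959b9b99977995997979779779797979bb886866a88a88888688888a46979b99779599799997979597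

def tbl (T : ℕ) (i : PI) (a : GolayPt) : ℤ := (T >>> (96 * ixI i + 4 * gIx a) % 16 : ℕ) - 8

def vv : PI → GolayPt → ℤ := tbl vT

def Gr (i j : PI) : ℤ :=
  if i.1 = j.1 ∧ i.2.1 = j.2.1 then if i.2.2 = j.2.2 then 48 else -24 else 0

def mask (y : GolayPt → ℤ) : ℕ := (List.range 24).foldr (fun i m => 2 * m + (y (gPt i) / 2 % 2).toNat) 0

def chkL (y : GolayPt → ℤ) : Prop := (∀ i, y i % 2 = y none % 2) ∧ (∑ i, y i) % 8 = 4 * y none % 8 ∧
  red gB (mask y) = 0 ∧ ∀ p, wd (mask y) p = hword y p

noncomputable instance : DecidablePred chkL := fun y => by unfold chkL; infer_instance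

theorem mem_of_chk {y : GolayPt → ℤ} (h : chkL y) : y ∈ leechLattice :=
  mem_leech.2 ⟨_, h.1, h.2.1, funext h.2.2.2 ▸ wd_mem_of_inSpan (inSpan_of_red h.2.2.1)⟩

theorem vv_dot : ∀ i j, dotInt (vv i) (vv j) = Gr i j := by unfold dotInt; decide +kernel

theorem vv_frame : ∀ a b, ∑ i, vv i a * vv i b = if a = b then 72 else 0 := by decide +kernel

theorem vv_chk : ∀ i, chkL (vv i) := by decide +kernel

def lam (s : Option F3) (t : F3) (x : US) : F3 := s.elim (x.g + 2 * t * x.e + (t ^ 2 + 1) * x.c)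
  fun s => x.z + 2 * s * x.h + 2 * t * x.f + s ^ 2 * x.g + 2 * s * t * x.e + t ^ 2 * x.c

instance : MulAction US PI where
  smul x i := match i with
    | (none, t, k) => (none, t - x.b, k + lam none (t - x.b) x)
    | (some s, t, k) => (some (s - x.a), t - x.b * (s - x.a) - x.d,
        k + lam (some (s - x.a)) (t - x.b * (s - x.a) - x.d) x)
  one_smul := by decide
  mul_smul x y := by
    rintro ⟨_ | s, t, k⟩
    · refine Prod.ext rfl (Prod.ext ?_ ?_)
      · show t - (x * y).b = t - y.b - x.b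
        simp; ring
      · show k + lam none (t - (x * y).b) (x * y) = k + lam none (t - y.b) y + lam none (t - y.b - x.b) x
        simp [lam]; ring
    · refine Prod.ext (congrArg some ?_) (Prod.ext ?_ ?_)
      · show s - (x * y).a = s - y.a - x.a
        simp; ring
      · show t - (x * y).b * (s - (x * y).a) - (x * y).d =
          t - y.b * (s - y.a) - y.d - x.b * (s - y.a - x.a) - x.d
        simp; ring
      · show k + lam (some (s - (x * y).a)) (t - (x * y).b * (s - (x * y).a) - (x * y).d) (x * y) =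
          k + lam (some (s - y.a)) (t - y.b * (s - y.a) - y.d) y + lam (some (s - y.a - x.a))
            (t - y.b * (s - y.a) - y.d - x.b * (s - y.a - x.a) - x.d) x
        simp [lam]; ring

def chk9 (w : PI → GolayPt → ℤ) : Prop :=
  ∀ a, (∀ b, (∑ i, vv i a * w i b) % 9 = 0) ∧ chkL fun b => (∑ i, vv i a * w i b) / 9

noncomputable instance : DecidablePred chk9 := fun y => by unfold chk9; infer_instance

theorem vv_sum : ∀ s t a, vv (s, t, 0) a + vv (s, t, 1) a + vv (s, t, 2) a = 0 := by decide +kernel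

/-- signed permutations of the frame -/
def chkS (ε : PI → ℤ) (σ : PI → PI) : Prop :=
  (∀ i j, ε i * ε j * Gr (σ i) (σ j) = Gr i j) ∧ chk9 fun i b => ε i * vv (σ i) b

noncomputable instance (ε : PI → ℤ) (σ : PI → PI) : Decidable (chkS ε σ) := by
  unfold chkS; infer_instance

def s1 : PI → PI
  | (none, t, k) => (some 0, t, k)
  | (some s, t, k) => if s = 0 then (none, -t, k) else (some (-s), s * t, k)

def s2 : PI → PI
  | (none, t, k) => (none, t, if t = 0 then k else -k)
  | (some s, t, k) => (some t, -s, k)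

def e2 (i : PI) : ℤ := if i.1 = none ∧ i.2.1 ≠ 0 then -1 else 1

def sT (p q r : F3) : PI → PI
  | (none, t, k) => (none, q * t, r * k)
  | (some s, t, k) => (some (p * s), p * q * t, r * k)

theorem chk_a : chkS 1 (xa 1 • ·) := by decide +kernel
theorem chk_b : chkS 1 (xb 1 • ·) := by decide +kernel
theorem chk_c : chkS 1 (xc 1 • ·) := by decide +kernel
theorem chk_1 : chkS 1 s1 := by decide +kernel
theorem chk_2 : chkS e2 s2 := by decide +kernel
theorem chk_t1 : chkS 1 (sT 1 (-1) 1) := by decide +kernel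
theorem chk_t2 : chkS 1 (sT (-1) 1 1) := by decide +kernel
theorem chk_t3 : chkS 1 (sT 1 1 (-1)) := by decide +kernel

def w3 : PI → GolayPt → ℤ := tbl 0x6868888488686868886888a699b7779799b9b799779997799779997d7777799799977979399999979797999799977979ca8888aaa8888868886888a6957777575979779977999779886aaaa86888a686688a868886866688a6a6688a8a8868888aa888688a6a8a88a686aa88886a8a68aaa6868a8888aa888686a6a8886aa888aa8686888aa8688866886a86668a6888888a6868aa68aa886a88668886a68aa8888666868686a8888a68a68866aa888aa88a8a88797779999979777997d9779777999579779799775977b997a8888a86888888a8a848686a88888668a666a686a68a888886aaa8a88a8a688a68886a888a666a8868a88a888a86a6888aaa86886a866688aa8886888866a868a8aa88866686688886886aa88668aa8a888aaa8877995979779b957799777997a888a88688868a4888a8886a79779799997779d9777997976886888a8a888868886a8846997b779795797799779597799797997779979997999979d999777797997977957b999b799799997777979999979777736888888a8888886a866886ac886866a86a86a88886866a88868a8888a8aa6a86a88aa6888aa6aa688668868a6a888888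

def i3 (i : PI) (u l : F3) : PI := (i.1, u, i.2.2 - i.2.1 * u + l)

theorem w3_chk : ∀ i, chkL (w3 i) := by decide +kernel
theorem w3_dot : ∀ i j, dotInt (w3 i) (w3 j) = Gr i j := by unfold dotInt; decide +kernel
theorem w3_9 : chk9 w3 := by decide +kernel
theorem w3_cj : ∀ r ∈ [1, xa 1, xb 1, xd 1, xe 1, xf 1, xg 1, xh 1, xz 1], ∀ i a,
    ∑ u, (vv (n3 r • i3 i u 2) a - vv (n3 r • i3 i u 1) a) = 3 * w3 (r • i) a := by decide +kernel

/-- an information set of the ternary Golay code -/
def Inf (i : PI) : Prop := i.1 = none ∨ (i.1 = some 0 ∧ i.2.1 ≠ -1) ∨ (i.1 = some 1 ∧ i.2.1 = 0)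

instance : DecidablePred Inf := fun _ => by unfold Inf; infer_instance

def cq (s t : F3) (i : PI) : ℤ := if i.2.2 = 0 then
  (0x2a5599119590a1659661591825561200000001556a000000000000 >>> (2 * (12 * (3 * s.val + t.val) + ixI i / 3)) % 4 : ℕ) - 1
  else 0

theorem cq_spec : ∀ s t, ¬ Inf (some s, t, 0) →
    (∀ i, ¬ Inf i → cq s t i = if i = (some s, t, 0) then 1 else 0) ∧
    (∀ a, (∑ i, cq s t i * vv i a) % 3 = 0) ∧ chkL (fun a => (∑ i, cq s t i * vv i a) / 3) ∧
    ∀ m, (vv (some s, t, m) (some 0) - vv (some s, t, 0) (some 0)) % 3 = 0 → m = 0 := by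
  decide +kernel

theorem lam_sep : ∀ s t s' t', (s, t) ≠ (s', t') → ∃ x ∈ ([⟨0, 0, 0, 0, 0, 0, 0, 1, 0⟩, ⟨0, 0, 0, 0, 0, 0, 1, 0, 2⟩, ⟨0, 0, 0, 0, 0, 0, 0, 1, 1⟩, ⟨0, 0, 0, 0, 0, 0, 1, 2, 0⟩, ⟨0, 0, 1, 0, 0, 0, 1, 0, 2⟩, ⟨0, 0, 1, 0, 0, 0, 2, 0, 0⟩, ⟨0, 0, 0, 0, 0, 1, 0, 0, 1⟩, ⟨0, 0, 0, 0, 0, 1, 0, 0, 2⟩, ⟨0, 0, 0, 0, 1, 0, 1, 0, 0⟩, ⟨0, 0, 0, 0, 1, 0, 2, 0, 0⟩] : List US),
    (x.a = 0 ∧ x.b = 0 ∧ x.d = 0) ∧ lam s t x = 0 ∧ lam s' t' x ≠ 0 := by decide +kernel

end Cfsg.Agent.C3
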