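import Cfsg.Agent.Lib.C3.Co1

/-!
# S5227: elements of `Co₀` given by the images of the frame (see notes/C3.md)
-/

set_option autoImplicit false
set_option linter.unusedSimpArgs false
set_option linter.unusedVariables false

namespace Cfsg.Agent.C3

open Subgroup Cfsg H2 H8 Finset

def vL (i : PI) : leechLattice := ⟨vv i, mem_of_chk (vv_chk i)⟩

theorem frame (x : GolayPt → ℤ) (b : GolayPt) : ∑ i, dotInt x (vv i) * vv i b = 72 * x b := by
  simp only [dotInt, sum_mul]
  rw [sum_comm]
  simp only [mul_assoc, ← mul_sum, vv_frame]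
  simp [mul_comm]

theorem ext_dot {x y : leechLattice} (h : ∀ i, dotInt x.1 (vv i) = dotInt y.1 (vv i)) : x = y :=
  Subtype.ext (funext fun b => by
    have h1 := frame x.1 b
    have h2 := frame y.1 b
    simp only [h] at h1
    omega)

theorem norm_dot (x : GolayPt → ℤ) : 72 * sqNorm x = ∑ i, dotInt x (vv i) ^ 2 := by
  calc _ = ∑ b, x b * (72 * x b) := by rw [sqNorm, mul_sum]; exact sum_congr rfl fun _ _ => by ring
    _ = _ := by
      simp only [← frame, mul_sum]
      rw [sum_comm]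
      refine sum_congr rfl fun i _ => ?_
      rw [pow_two]; nth_rewrite 3 [dotInt]
      rw [mul_sum]; exact sum_congr rfl fun _ _ => by ring

theorem even_norm (x : leechLattice) : sqNorm x.1 % 16 = 0 := by
  obtain ⟨m, h1, h2, h3⟩ := mem_leech.1 x.2
  have hw : ∀ i, i ∈ support₂ (hword x.1) ↔ x.1 i / 2 % 2 = 1 := fun i => by
    simpa using mem_support_hword (x := x.1) (c := 0) (i := i)
  have h4 : ((support₂ (hword x.1)).card : ℤ) = ∑ i, x.1 i / 2 % 2 := by
    rw [card_eq_sum_ones, Nat.cast_sum, ← sum_subset (subset_univ (support₂ (hword x.1)))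
      fun i _ h => by have := (hw i).not.1 h; omega]
    exact sum_congr rfl fun i h => ((hw i).1 h).symm
  have h5 : (support₂ (hword x.1)).card % 4 = 0 := by
    rcases golay_card h3 with h | h | h | h | h <;> rw [h]
    simp [support₂]
  have h6 : (16 : ℤ) ∣ ∑ i, (x.1 i ^ 2 - (m % 2 * (2 * x.1 i - 1) + 4 * (x.1 i / 2 % 2))) :=
    dvd_sum fun i _ => by
      rw [← h1 i]
      generalize x.1 i = y
      obtain ⟨k, h | h | h | h⟩ : ∃ k, y = 4 * k ∨ y = 4 * k + 1 ∨ y = 4 * k + 2 ∨ y = 4 * k + 3 :=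
        ⟨y / 4, by omega⟩
      · rw [show y % 2 = 0 by omega, show y / 2 % 2 = 0 by omega, h]; exact ⟨k ^ 2, by ring⟩
      · rw [show y % 2 = 1 by omega, show y / 2 % 2 = 0 by omega, h]; exact ⟨k ^ 2, by ring⟩
      · rw [show y % 2 = 0 by omega, show y / 2 % 2 = 1 by omega, h]; exact ⟨k ^ 2 + k, by ring⟩
      · rw [show y % 2 = 1 by omega, show y / 2 % 2 = 1 by omega, h]; exact ⟨k ^ 2 + k, by ring⟩
  simp only [sum_sub_distrib, sum_add_distrib, ← mul_sum, ← h4, sum_const, card_univ,
    show Fintype.card GolayPt = 24 from rfl] at h6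
  rw [sqNorm]
  rcases Int.emod_two_eq_zero_or_one m with h | h <;> rw [h] at h6 <;>
    simp only [nsmul_eq_mul, Nat.cast_ofNat, zero_mul, one_mul, mul_one] at h6 <;> omega

theorem dot8 (x y : leechLattice) : dotInt x.1 y.1 % 8 = 0 := by
  have key : sqNorm (x + y).1 = sqNorm x.1 + 2 * dotInt x.1 y.1 + sqNorm y.1 := by
    simp only [sqNorm, dotInt, mul_sum, ← sum_add_distrib]
    exact sum_congr rfl fun i _ => by simp; ring
  have h1 := even_norm x
  have h2 := even_norm y
  have h3 := even_norm (x + y)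
  omega

theorem nrm {w : PI → GolayPt → ℤ} (h : ∀ i j, dotInt (w i) (w j) = Gr i j) (c : PI → ℤ) :
    sqNorm (fun b => ∑ i, c i * w i b) = ∑ i, ∑ j, c i * c j * Gr i j := by
  simp only [sqNorm, pow_two, sum_mul_sum]
  simp only [← h, dotInt, mul_sum]
  rw [sum_comm]
  refine sum_congr rfl fun i _ => ?_
  rw [sum_comm]
  exact sum_congr rfl fun j _ => sum_congr rfl fun b _ => by ring

theorem sqNorm_eq_zero {x : GolayPt → ℤ} (h : sqNorm x = 0) (b : GolayPt) : x b = 0 :=
  pow_eq_zero_iff two_ne_zero |>.1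
    ((sum_eq_zero_iff_of_nonneg fun i _ => sq_nonneg (x i)).1 h b (mem_univ b))

theorem finite_shell (n : ℤ) : {x : leechLattice | sqNorm x.1 = n}.Finite := by
  refine ((Set.Finite.pi' fun _ : GolayPt => Set.finite_Icc (-n) n).preimage
    Subtype.val_injective.injOn).subset fun x hx i => ?_
  have := single_le_sum (f := fun i => x.1 i ^ 2) (fun i _ => sq_nonneg _) (mem_univ i)
  have e : ∑ i, x.1 i ^ 2 = n := hx
  constructor <;> nlinarith

theorem exists_g {w : PI → GolayPt → ℤ} (hw : ∀ i, w i ∈ leechLattice)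
    (hG : ∀ i j, dotInt (w i) (w j) = Gr i j) (h9 : chk9 w) :
    ∃ g : Co0, ∀ i, (g.1 (vL i)).1 = w i := by
  have key : ∀ x : leechLattice, ∃ y : leechLattice, ∀ b,
      72 * y.1 b = ∑ i, dotInt x.1 (vv i) * w i b := fun x => by
    refine ⟨∑ i, (dotInt x.1 (vv i) / 8) • ⟨_, hw i⟩ - ∑ a, x.1 a • ⟨_, mem_of_chk (h9 a).2⟩,
      fun b => ?_⟩
    have h1 : ∑ i, dotInt x.1 (vv i) * w i b = 8 * ∑ i, dotInt x.1 (vv i) / 8 * w i b := by
      rw [mul_sum]
      exact sum_congr rfl fun i _ => by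
        rw [← mul_assoc, Int.mul_ediv_cancel' (show 8 ∣ dotInt x.1 (vv i) from
          Int.dvd_of_emod_eq_zero (dot8 x (vL i)))]
    have h2 : ∑ i, dotInt x.1 (vv i) * w i b = 9 * ∑ a, x.1 a * ((∑ i, vv i a * w i b) / 9) := by
      simp only [dotInt, sum_mul]
      rw [sum_comm, mul_sum]
      exact sum_congr rfl fun a _ => by
        rw [mul_left_comm, Int.mul_ediv_cancel' (Int.dvd_of_emod_eq_zero ((h9 a).1 b)), mul_sum]
        exact sum_congr rfl fun _ _ => mul_assoc _ _ _
    simp only [AddSubgroupClass.coe_sub, AddSubmonoidClass.coe_finset_sum, AddSubgroupClass.coe_zsmul,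
      Pi.sub_apply, Finset.sum_apply, Pi.smul_apply, smul_eq_mul]
    omega
  choose f hf using key
  have h1 : ∀ x y, f (x + y) = f x + f y := fun x y => Subtype.ext (funext fun b => by
    have e : ∑ i, dotInt (x + y).1 (vv i) * w i b =
        ∑ i, dotInt x.1 (vv i) * w i b + ∑ i, dotInt y.1 (vv i) * w i b := by
      simp [dotInt, add_mul, sum_add_distrib]
    rw [← hf, ← hf, ← hf] at e
    show _ = (f x).1 b + (f y).1 b
    omega)
  have h2 : ∀ x, sqNorm (f x).1 = sqNorm x.1 := fun x => by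
    have := (nrm hG fun i => dotInt x.1 (vv i)).trans (nrm vv_dot _).symm
    simp only [← hf, frame, sqNorm, mul_pow, ← mul_sum] at this
    simpa [sqNorm] using this
  have h3 : Function.Injective f := (injective_iff_map_eq_zero (AddMonoidHom.mk' f h1)).2 fun x hx =>
    Subtype.ext (funext (sqNorm_eq_zero (by rw [← h2, show f x = 0 from hx]; simp [sqNorm])))
  refine ⟨⟨Equiv.ofBijective f ⟨h3, fun y => ?_⟩, h1, h2⟩, fun i => funext fun b => ?_⟩
  · obtain ⟨x, -, e⟩ := (((finite_shell (sqNorm y.1)).injOn_iff_bijOn_of_mapsTo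
      fun x hx => (h2 x).trans hx).1 h3.injOn).surjOn (show y ∈ _ from rfl)
    exact ⟨x, e⟩
  · have k : ∀ u : PI → GolayPt → ℤ, ∀ b, ∑ j, (Gr i j - if j = i then 72 else 0) * u j b =
        ∑ j, dotInt (vv i) (vv j) * u j b - 72 * u i b := fun u b => by
      simp [sub_mul, vv_dot]
    have := sqNorm_eq_zero ((nrm hG fun j => Gr i j - if j = i then 72 else 0).trans
      ((nrm vv_dot _).symm.trans (by simp only [k, frame]; simp [sqNorm]))) b
    have e := hf (vL i) b
    simp only [k] at this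
    show (f (vL i)).1 b = _
    simp only [vL] at e ⊢
    omega

/-- the additive map of an element -/
def aH (g : Co0) : leechLattice →+ leechLattice := AddMonoidHom.mk' g.1 g.2.1

theorem aH_mul (g h : Co0) (x : leechLattice) : aH (g * h) x = aH g (aH h x) := rfl

theorem aH_one (x : leechLattice) : aH 1 x = x := rfl

theorem aH_dot (g : Co0) (x y : leechLattice) : dotInt (aH g x).1 (aH g y).1 = dotInt x.1 y.1 :=
  Co0_dot g.2 x y

theorem cancel {n : ℤ} (hn : n ≠ 0) {x y : leechLattice} (h : n • x = n • y) : x = y :=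
  Subtype.ext (funext fun b => mul_left_cancel₀ hn (congrFun (congrArg Subtype.val h) b))

theorem ext_frame {g h : Co0} (e : ∀ i, aH g (vL i) = aH h (vL i)) : g = h :=
  Subtype.ext (Equiv.ext fun x => cancel (n := 72) (by decide) (by
    have : (72 : ℤ) • x = ∑ i, dotInt x.1 (vv i) • vL i := Subtype.ext (funext fun b => by
      simpa [vL] using (frame x.1 b).symm)
    show (72 : ℤ) • aH g x = (72 : ℤ) • aH h x
    simp only [← map_zsmul, this, map_sum]
    simp only [map_zsmul, e]))

theorem finite_Co0 : Finite Co0 :=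
  have := (finite_shell 48).to_subtype
  Finite.of_injective (fun (g : Co0) (i : PI) => (⟨aH g (vL i), (g.2.2 _).trans (by
    have := vv_dot i i
    simpa [sqNorm, dotInt, Gr, pow_two, vL] using this)⟩ : {x : leechLattice | sqNorm x.1 = 48}))
    fun g h e => ext_frame fun i => congrArg Subtype.val (congrFun e i)

theorem exists_S {ε : PI → ℤ} {σ : PI → PI} (h : chkS ε σ) :
    ∃ g : Co0, ∀ i, aH g (vL i) = ε i • vL (σ i) :=
  (exists_g (fun i => (ε i • vL (σ i)).2) (fun i j => by
    rw [← h.1, ← vv_dot]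
    simp only [dotInt, mul_sum]
    exact sum_congr rfl fun b _ => by simp [vL]; ring) h.2).imp fun g e i => Subtype.ext (e i)

theorem exists_ι : ∃ ι : US →* Co0, ∀ x i, aH (ι x) (vL i) = vL (x • i) := by
  let K : Subgroup US :=
    { carrier := {x | ∃ g : Co0, ∀ i, aH g (vL i) = vL (x • i)}
      one_mem' := ⟨1, fun i => by rw [one_smul]; rfl⟩
      mul_mem' := fun {x y} ⟨g, h1⟩ ⟨h, h2⟩ => ⟨g * h, fun i => by rw [aH_mul, h2, h1, mul_smul]⟩
      inv_mem' := fun {x} ⟨g, h1⟩ => ⟨g⁻¹, fun i => by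
        conv_lhs => rw [← smul_inv_smul x i, ← h1, ← aH_mul, inv_mul_cancel, aH_one]⟩ }
  have ha : xa 1 ∈ K := (exists_S chk_a).imp fun g e i => (e i).trans (one_smul _ _)
  have hb : xb 1 ∈ K := (exists_S chk_b).imp fun g e i => (e i).trans (one_smul _ _)
  have hc : xc 1 ∈ K := (exists_S chk_c).imp fun g e i => (e i).trans (one_smul _ _)
  have cj : ∀ {x y}, x ∈ K → y ∈ K → x * y * x⁻¹ * y⁻¹ ∈ K := fun hx hy =>
    mul_mem (mul_mem (mul_mem hx hy) (inv_mem hx)) (inv_mem hy)
  have hg : xg 1 ∈ K := by convert inv_mem (cj hb (cj hb hc)) using 1; decide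
  have he : xe 1 ∈ K := by convert mul_mem (cj hb hc) (inv_mem hg) using 1; decide
  have hf : xf 1 ∈ K := by convert cj ha he using 1; decide
  have hh : xh 1 ∈ K := by convert cj hb hf using 1; decide
  have : ∀ x, x ∈ K := fun x => mem_of_gens (.inr ha) (.inr hb) (.inr hc)
    (.inr (by convert cj ha hb using 1; decide)) (.inr he) (.inr hf) (.inr hg) (.inr hh)
    (.inr (by convert inv_mem (cj ha hh) using 1; decide))
  choose f hf using this
  exact ⟨MonoidHom.mk' f fun x y => ext_frame fun i => by rw [aH_mul, hf, hf, hf, mul_smul], hf⟩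

end Cfsg.Agent.C3
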