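import Cfsg.Agent.Lib.U5.QB

/-!
# S5227: the Sylow `3`-subgroup of `Sp₆(3)` (and of `Co₁`) in coordinates (see notes/C3.md)

`⟨a, b, c, d, e, f, g, h, z⟩` is the pair `(y, u)` with `y = [[z, h, f], [h, g, e], [f, e, c]]`
symmetric and `u = [[1, a, d], [0, 1, b], [0, 0, 1]]`; `(y, u) (y', u') = (y + u y' uᵀ, u u')`.
-/

set_option autoImplicit false
set_option linter.unusedSectionVars false
set_option linter.unusedVariables false
set_option linter.unusedSimpArgs false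
set_option linter.unnecessarySeqFocus false
set_option linter.unusedTactic false
set_option linter.unreachableTactic false

namespace Cfsg.Agent.C3

open Subgroup Cfsg Cfsg.FusionSystem Cfsg.Agent.U5
open scoped commutatorElement

abbrev F3 := ZMod 3

instance : Fact (Nat.Prime 3) := Nat.fact_prime_three

theorem h3 : (3 : F3) = 0 := rfl

theorem f3_cases (t : F3) : t = 0 ∨ t = 1 ∨ t = -1 := by revert t; decide

theorem sq_of_ne {t : F3} (h : t ≠ 0) : t * t = 1 := by revert t; decide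

theorem cube (t : F3) : t ^ 3 = t := by revert t; decide

@[ext] structure US where
  a : F3
  b : F3
  c : F3
  d : F3
  e : F3
  f : F3
  g : F3
  h : F3
  z : F3
  deriving DecidableEq

namespace US

instance : One US := ⟨⟨0, 0, 0, 0, 0, 0, 0, 0, 0⟩⟩

instance : Mul US := ⟨fun x y =>
  ⟨x.a + y.a,
    x.b + y.b,
    x.c + y.c,
    x.d + y.d + x.a * y.b,
    x.e + y.e + x.b * y.c,
    x.f + y.f + x.a * y.e + x.d * y.c,
    x.g + y.g + 2 * x.b * y.e + x.b ^ 2 * y.c,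
    x.h + y.h + x.b * y.f + x.a * y.g + (x.a * x.b + x.d) * y.e + x.b * x.d * y.c,
    x.z + y.z + 2 * x.a * y.h + 2 * x.d * y.f + x.a ^ 2 * y.g + 2 * x.a * x.d * y.e +
      x.d ^ 2 * y.c⟩⟩

instance : Inv US := ⟨fun x =>
  ⟨-x.a,
    -x.b,
    -x.c,
    x.a * x.b - x.d,
    x.b * x.c - x.e,
    x.a * x.e - x.f - (x.a * x.b - x.d) * x.c,
    2 * x.b * x.e - x.g - x.b ^ 2 * x.c,
    x.a * x.g + x.b * x.f - x.h + (x.d - 2 * x.a * x.b) * x.e + x.b * (x.a * x.b - x.d) * x.c,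
    2 * x.a * x.h - x.z - 2 * (x.a * x.b - x.d) * x.f - x.a ^ 2 * x.g +
      2 * x.a * (x.a * x.b - x.d) * x.e - (x.a * x.b - x.d) ^ 2 * x.c⟩⟩

@[simp] theorem one_a : (1 : US).a = 0 := rfl
@[simp] theorem one_b : (1 : US).b = 0 := rfl
@[simp] theorem one_c : (1 : US).c = 0 := rfl
@[simp] theorem one_d : (1 : US).d = 0 := rfl
@[simp] theorem one_e : (1 : US).e = 0 := rfl
@[simp] theorem one_f : (1 : US).f = 0 := rfl
@[simp] theorem one_g : (1 : US).g = 0 := rfl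
@[simp] theorem one_h : (1 : US).h = 0 := rfl
@[simp] theorem one_z : (1 : US).z = 0 := rfl
@[simp] theorem mul_a (x y : US) : (x * y).a =
    x.a + y.a := rfl
@[simp] theorem mul_b (x y : US) : (x * y).b =
    x.b + y.b := rfl
@[simp] theorem mul_c (x y : US) : (x * y).c =
    x.c + y.c := rfl
@[simp] theorem mul_d (x y : US) : (x * y).d =
    x.d + y.d + x.a * y.b := rfl
@[simp] theorem mul_e (x y : US) : (x * y).e =
    x.e + y.e + x.b * y.c := rfl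
@[simp] theorem mul_f (x y : US) : (x * y).f =
    x.f + y.f + x.a * y.e + x.d * y.c := rfl
@[simp] theorem mul_g (x y : US) : (x * y).g =
    x.g + y.g + 2 * x.b * y.e + x.b ^ 2 * y.c := rfl
@[simp] theorem mul_h (x y : US) : (x * y).h =
    x.h + y.h + x.b * y.f + x.a * y.g + (x.a * x.b + x.d) * y.e + x.b * x.d * y.c := rfl
@[simp] theorem mul_z (x y : US) : (x * y).z =
    x.z + y.z + 2 * x.a * y.h + 2 * x.d * y.f + x.a ^ 2 * y.g + 2 * x.a * x.d * y.e +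
      x.d ^ 2 * y.c := rfl
@[simp] theorem inv_a (x : US) : x⁻¹.a =
    -x.a := rfl
@[simp] theorem inv_b (x : US) : x⁻¹.b =
    -x.b := rfl
@[simp] theorem inv_c (x : US) : x⁻¹.c =
    -x.c := rfl
@[simp] theorem inv_d (x : US) : x⁻¹.d =
    x.a * x.b - x.d := rfl
@[simp] theorem inv_e (x : US) : x⁻¹.e =
    x.b * x.c - x.e := rfl
@[simp] theorem inv_f (x : US) : x⁻¹.f =
    x.a * x.e - x.f - (x.a * x.b - x.d) * x.c := rfl
@[simp] theorem inv_g (x : US) : x⁻¹.g =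
    2 * x.b * x.e - x.g - x.b ^ 2 * x.c := rfl
@[simp] theorem inv_h (x : US) : x⁻¹.h =
    x.a * x.g + x.b * x.f - x.h + (x.d - 2 * x.a * x.b) * x.e + x.b * (x.a * x.b - x.d) * x.c := rfl
@[simp] theorem inv_z (x : US) : x⁻¹.z =
    2 * x.a * x.h - x.z - 2 * (x.a * x.b - x.d) * x.f - x.a ^ 2 * x.g +
      2 * x.a * (x.a * x.b - x.d) * x.e - (x.a * x.b - x.d) ^ 2 * x.c := rfl

instance : Group US := Group.ofLeftAxioms
  (fun x y z => by ext <;> simp <;> ring) (fun x => by ext <;> simp)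
  (fun x => by ext <;> simp <;> ring)

instance : Finite US :=
  Finite.of_injective (fun x : US => (x.a, x.b, x.c, x.d, x.e, x.f, x.g, x.h, x.z)) fun x y h => by
    simp only [Prod.mk.injEq] at h
    obtain ⟨h1, h2, h3, h4, h5, h6, h7, h8, h9⟩ := h
    exact US.ext h1 h2 h3 h4 h5 h6 h7 h8 h9

end US

open US

def E1 : Subgroup US where
  carrier := {x | x.a = 0}
  one_mem' := by simp
  mul_mem' := fun {x y} hx hy => by simp_all
  inv_mem' := fun {x} hx => by simp_all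

theorem mem_E1 {x : US} : x ∈ E1 ↔ x.a = 0 := Iff.rfl

def E2 : Subgroup US where
  carrier := {x | x.b = 0}
  one_mem' := by simp
  mul_mem' := fun {x y} hx hy => by simp_all
  inv_mem' := fun {x} hx => by simp_all

theorem mem_E2 {x : US} : x ∈ E2 ↔ x.b = 0 := Iff.rfl

def E3 : Subgroup US where
  carrier := {x | x.c = 0}
  one_mem' := by simp
  mul_mem' := fun {x y} hx hy => by simp_all
  inv_mem' := fun {x} hx => by simp_all

theorem mem_E3 {x : US} : x ∈ E3 ↔ x.c = 0 := Iff.rfl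

def KK : Subgroup US where
  carrier := {x | x.a = 0 ∧ x.b = 0}
  one_mem' := by simp
  mul_mem' := fun {x y} hx hy => by simp_all
  inv_mem' := fun {x} hx => by simp_all

theorem mem_KK {x : US} : x ∈ KK ↔ x.a = 0 ∧ x.b = 0 := Iff.rfl

def WW : Subgroup US where
  carrier := {x | x.a = 0 ∧ x.c = 0}
  one_mem' := by simp
  mul_mem' := fun {x y} hx hy => by simp_all
  inv_mem' := fun {x} hx => by simp_all

theorem mem_WW {x : US} : x ∈ WW ↔ x.a = 0 ∧ x.c = 0 := Iff.rfl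

def JJ : Subgroup US where
  carrier := {x | x.a = 0 ∧ x.b = 0 ∧ x.d = 0}
  one_mem' := by simp
  mul_mem' := fun {x y} hx hy => by simp_all
  inv_mem' := fun {x} hx => by simp_all

theorem mem_JJ {x : US} : x ∈ JJ ↔ x.a = 0 ∧ x.b = 0 ∧ x.d = 0 := Iff.rfl

def Z4 : Subgroup US where
  carrier := {x | x.a = 0 ∧ x.b = 0 ∧ x.c = 0}
  one_mem' := by simp
  mul_mem' := fun {x y} hx hy => by simp_all
  inv_mem' := fun {x} hx => by simp_all

theorem mem_Z4 {x : US} : x ∈ Z4 ↔ x.a = 0 ∧ x.b = 0 ∧ x.c = 0 := Iff.rfl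

def H0 : Subgroup US where
  carrier := {x | x.a = 0 ∧ x.b = 0 ∧ x.c = 0 ∧ x.d = 0}
  one_mem' := by simp
  mul_mem' := fun {x y} hx hy => by simp_all
  inv_mem' := fun {x} hx => by simp_all

theorem mem_H0 {x : US} : x ∈ H0 ↔ x.a = 0 ∧ x.b = 0 ∧ x.c = 0 ∧ x.d = 0 := Iff.rfl

def G2 : Subgroup US where
  carrier := {x | x.a = 0 ∧ x.b = 0 ∧ x.c = 0 ∧ x.e = 0}
  one_mem' := by simp
  mul_mem' := fun {x y} hx hy => by simp_all
  inv_mem' := fun {x} hx => by simp_all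

theorem mem_G2 {x : US} : x ∈ G2 ↔ x.a = 0 ∧ x.b = 0 ∧ x.c = 0 ∧ x.e = 0 := Iff.rfl

def Z3 : Subgroup US where
  carrier := {x | x.a = 0 ∧ x.b = 0 ∧ x.c = 0 ∧ x.d = 0 ∧ x.e = 0}
  one_mem' := by simp
  mul_mem' := fun {x y} hx hy => by simp_all
  inv_mem' := fun {x} hx => by simp_all

theorem mem_Z3 {x : US} : x ∈ Z3 ↔ x.a = 0 ∧ x.b = 0 ∧ x.c = 0 ∧ x.d = 0 ∧ x.e = 0 := Iff.rfl

def YY : Subgroup US where
  carrier := {x | x.a = 0 ∧ x.b = 0 ∧ x.c = 0 ∧ x.d = 0 ∧ x.e = 0 ∧ x.f = 0}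
  one_mem' := by simp
  mul_mem' := fun {x y} hx hy => by simp_all
  inv_mem' := fun {x} hx => by simp_all

theorem mem_YY {x : US} : x ∈ YY ↔ x.a = 0 ∧ x.b = 0 ∧ x.c = 0 ∧ x.d = 0 ∧ x.e = 0 ∧ x.f = 0 := Iff.rfl

def N2 : Subgroup US where
  carrier := {x | x.a = 0 ∧ x.b = 0 ∧ x.c = 0 ∧ x.d = 0 ∧ x.e = 0 ∧ x.g = 0}
  one_mem' := by simp
  mul_mem' := fun {x y} hx hy => by simp_all
  inv_mem' := fun {x} hx => by simp_all

theorem mem_N2 {x : US} : x ∈ N2 ↔ x.a = 0 ∧ x.b = 0 ∧ x.c = 0 ∧ x.d = 0 ∧ x.e = 0 ∧ x.g = 0 := Iff.rfl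

def Z2 : Subgroup US where
  carrier := {x | x.a = 0 ∧ x.b = 0 ∧ x.c = 0 ∧ x.d = 0 ∧ x.e = 0 ∧ x.f = 0 ∧ x.g = 0}
  one_mem' := by simp
  mul_mem' := fun {x y} hx hy => by simp_all
  inv_mem' := fun {x} hx => by simp_all

theorem mem_Z2 {x : US} : x ∈ Z2 ↔ x.a = 0 ∧ x.b = 0 ∧ x.c = 0 ∧ x.d = 0 ∧ x.e = 0 ∧ x.f = 0 ∧ x.g = 0 := Iff.rfl

def Z1 : Subgroup US where
  carrier := {x | x.a = 0 ∧ x.b = 0 ∧ x.c = 0 ∧ x.d = 0 ∧ x.e = 0 ∧ x.f = 0 ∧ x.g = 0 ∧ x.h = 0}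
  one_mem' := by simp
  mul_mem' := fun {x y} hx hy => by simp_all
  inv_mem' := fun {x} hx => by simp_all

theorem mem_Z1 {x : US} : x ∈ Z1 ↔ x.a = 0 ∧ x.b = 0 ∧ x.c = 0 ∧ x.d = 0 ∧ x.e = 0 ∧ x.f = 0 ∧ x.g = 0 ∧ x.h = 0 := Iff.rfl

theorem KK_le_E1 : KK ≤ E1 := fun x h => by
  rw [mem_KK] at h; simp [mem_E1, h]
theorem KK_le_E2 : KK ≤ E2 := fun x h => by
  rw [mem_KK] at h; simp [mem_E2, h]
theorem WW_le_E1 : WW ≤ E1 := fun x h => by
  rw [mem_WW] at h; simp [mem_E1, h]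
theorem WW_le_E3 : WW ≤ E3 := fun x h => by
  rw [mem_WW] at h; simp [mem_E3, h]
theorem JJ_le_E1 : JJ ≤ E1 := fun x h => by
  rw [mem_JJ] at h; simp [mem_E1, h]
theorem JJ_le_E2 : JJ ≤ E2 := fun x h => by
  rw [mem_JJ] at h; simp [mem_E2, h]
theorem JJ_le_KK : JJ ≤ KK := fun x h => by
  rw [mem_JJ] at h; simp [mem_KK, h]
theorem Z4_le_E1 : Z4 ≤ E1 := fun x h => by
  rw [mem_Z4] at h; simp [mem_E1, h]
theorem Z4_le_E2 : Z4 ≤ E2 := fun x h => by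
  rw [mem_Z4] at h; simp [mem_E2, h]
theorem Z4_le_E3 : Z4 ≤ E3 := fun x h => by
  rw [mem_Z4] at h; simp [mem_E3, h]
theorem Z4_le_KK : Z4 ≤ KK := fun x h => by
  rw [mem_Z4] at h; simp [mem_KK, h]
theorem Z4_le_WW : Z4 ≤ WW := fun x h => by
  rw [mem_Z4] at h; simp [mem_WW, h]
theorem H0_le_E1 : H0 ≤ E1 := fun x h => by
  rw [mem_H0] at h; simp [mem_E1, h]
theorem H0_le_E2 : H0 ≤ E2 := fun x h => by
  rw [mem_H0] at h; simp [mem_E2, h]
theorem H0_le_E3 : H0 ≤ E3 := fun x h => by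
  rw [mem_H0] at h; simp [mem_E3, h]
theorem H0_le_KK : H0 ≤ KK := fun x h => by
  rw [mem_H0] at h; simp [mem_KK, h]
theorem H0_le_WW : H0 ≤ WW := fun x h => by
  rw [mem_H0] at h; simp [mem_WW, h]
theorem H0_le_JJ : H0 ≤ JJ := fun x h => by
  rw [mem_H0] at h; simp [mem_JJ, h]
theorem H0_le_Z4 : H0 ≤ Z4 := fun x h => by
  rw [mem_H0] at h; simp [mem_Z4, h]
theorem G2_le_E1 : G2 ≤ E1 := fun x h => by
  rw [mem_G2] at h; simp [mem_E1, h]
theorem G2_le_E2 : G2 ≤ E2 := fun x h => by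
  rw [mem_G2] at h; simp [mem_E2, h]
theorem G2_le_E3 : G2 ≤ E3 := fun x h => by
  rw [mem_G2] at h; simp [mem_E3, h]
theorem G2_le_KK : G2 ≤ KK := fun x h => by
  rw [mem_G2] at h; simp [mem_KK, h]
theorem G2_le_WW : G2 ≤ WW := fun x h => by
  rw [mem_G2] at h; simp [mem_WW, h]
theorem G2_le_Z4 : G2 ≤ Z4 := fun x h => by
  rw [mem_G2] at h; simp [mem_Z4, h]
theorem Z3_le_E1 : Z3 ≤ E1 := fun x h => by
  rw [mem_Z3] at h; simp [mem_E1, h]
theorem Z3_le_E2 : Z3 ≤ E2 := fun x h => by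
  rw [mem_Z3] at h; simp [mem_E2, h]
theorem Z3_le_E3 : Z3 ≤ E3 := fun x h => by
  rw [mem_Z3] at h; simp [mem_E3, h]
theorem Z3_le_KK : Z3 ≤ KK := fun x h => by
  rw [mem_Z3] at h; simp [mem_KK, h]
theorem Z3_le_WW : Z3 ≤ WW := fun x h => by
  rw [mem_Z3] at h; simp [mem_WW, h]
theorem Z3_le_JJ : Z3 ≤ JJ := fun x h => by
  rw [mem_Z3] at h; simp [mem_JJ, h]
theorem Z3_le_Z4 : Z3 ≤ Z4 := fun x h => by
  rw [mem_Z3] at h; simp [mem_Z4, h]
theorem Z3_le_H0 : Z3 ≤ H0 := fun x h => by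
  rw [mem_Z3] at h; simp [mem_H0, h]
theorem Z3_le_G2 : Z3 ≤ G2 := fun x h => by
  rw [mem_Z3] at h; simp [mem_G2, h]
theorem YY_le_E1 : YY ≤ E1 := fun x h => by
  rw [mem_YY] at h; simp [mem_E1, h]
theorem YY_le_E2 : YY ≤ E2 := fun x h => by
  rw [mem_YY] at h; simp [mem_E2, h]
theorem YY_le_E3 : YY ≤ E3 := fun x h => by
  rw [mem_YY] at h; simp [mem_E3, h]
theorem YY_le_KK : YY ≤ KK := fun x h => by
  rw [mem_YY] at h; simp [mem_KK, h]
theorem YY_le_WW : YY ≤ WW := fun x h => by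
  rw [mem_YY] at h; simp [mem_WW, h]
theorem YY_le_JJ : YY ≤ JJ := fun x h => by
  rw [mem_YY] at h; simp [mem_JJ, h]
theorem YY_le_Z4 : YY ≤ Z4 := fun x h => by
  rw [mem_YY] at h; simp [mem_Z4, h]
theorem YY_le_H0 : YY ≤ H0 := fun x h => by
  rw [mem_YY] at h; simp [mem_H0, h]
theorem YY_le_G2 : YY ≤ G2 := fun x h => by
  rw [mem_YY] at h; simp [mem_G2, h]
theorem YY_le_Z3 : YY ≤ Z3 := fun x h => by
  rw [mem_YY] at h; simp [mem_Z3, h]
theorem N2_le_E1 : N2 ≤ E1 := fun x h => by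
  rw [mem_N2] at h; simp [mem_E1, h]
theorem N2_le_E2 : N2 ≤ E2 := fun x h => by
  rw [mem_N2] at h; simp [mem_E2, h]
theorem N2_le_E3 : N2 ≤ E3 := fun x h => by
  rw [mem_N2] at h; simp [mem_E3, h]
theorem N2_le_KK : N2 ≤ KK := fun x h => by
  rw [mem_N2] at h; simp [mem_KK, h]
theorem N2_le_WW : N2 ≤ WW := fun x h => by
  rw [mem_N2] at h; simp [mem_WW, h]
theorem N2_le_JJ : N2 ≤ JJ := fun x h => by
  rw [mem_N2] at h; simp [mem_JJ, h]
theorem N2_le_Z4 : N2 ≤ Z4 := fun x h => by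
  rw [mem_N2] at h; simp [mem_Z4, h]
theorem N2_le_H0 : N2 ≤ H0 := fun x h => by
  rw [mem_N2] at h; simp [mem_H0, h]
theorem N2_le_G2 : N2 ≤ G2 := fun x h => by
  rw [mem_N2] at h; simp [mem_G2, h]
theorem N2_le_Z3 : N2 ≤ Z3 := fun x h => by
  rw [mem_N2] at h; simp [mem_Z3, h]
theorem Z2_le_E1 : Z2 ≤ E1 := fun x h => by
  rw [mem_Z2] at h; simp [mem_E1, h]
theorem Z2_le_E2 : Z2 ≤ E2 := fun x h => by
  rw [mem_Z2] at h; simp [mem_E2, h]
theorem Z2_le_E3 : Z2 ≤ E3 := fun x h => by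
  rw [mem_Z2] at h; simp [mem_E3, h]
theorem Z2_le_KK : Z2 ≤ KK := fun x h => by
  rw [mem_Z2] at h; simp [mem_KK, h]
theorem Z2_le_WW : Z2 ≤ WW := fun x h => by
  rw [mem_Z2] at h; simp [mem_WW, h]
theorem Z2_le_JJ : Z2 ≤ JJ := fun x h => by
  rw [mem_Z2] at h; simp [mem_JJ, h]
theorem Z2_le_Z4 : Z2 ≤ Z4 := fun x h => by
  rw [mem_Z2] at h; simp [mem_Z4, h]
theorem Z2_le_H0 : Z2 ≤ H0 := fun x h => by
  rw [mem_Z2] at h; simp [mem_H0, h]
theorem Z2_le_G2 : Z2 ≤ G2 := fun x h => by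
  rw [mem_Z2] at h; simp [mem_G2, h]
theorem Z2_le_Z3 : Z2 ≤ Z3 := fun x h => by
  rw [mem_Z2] at h; simp [mem_Z3, h]
theorem Z2_le_YY : Z2 ≤ YY := fun x h => by
  rw [mem_Z2] at h; simp [mem_YY, h]
theorem Z2_le_N2 : Z2 ≤ N2 := fun x h => by
  rw [mem_Z2] at h; simp [mem_N2, h]
theorem Z1_le_E1 : Z1 ≤ E1 := fun x h => by
  rw [mem_Z1] at h; simp [mem_E1, h]
theorem Z1_le_E2 : Z1 ≤ E2 := fun x h => by
  rw [mem_Z1] at h; simp [mem_E2, h]
theorem Z1_le_E3 : Z1 ≤ E3 := fun x h => by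
  rw [mem_Z1] at h; simp [mem_E3, h]
theorem Z1_le_KK : Z1 ≤ KK := fun x h => by
  rw [mem_Z1] at h; simp [mem_KK, h]
theorem Z1_le_WW : Z1 ≤ WW := fun x h => by
  rw [mem_Z1] at h; simp [mem_WW, h]
theorem Z1_le_JJ : Z1 ≤ JJ := fun x h => by
  rw [mem_Z1] at h; simp [mem_JJ, h]
theorem Z1_le_Z4 : Z1 ≤ Z4 := fun x h => by
  rw [mem_Z1] at h; simp [mem_Z4, h]
theorem Z1_le_H0 : Z1 ≤ H0 := fun x h => by
  rw [mem_Z1] at h; simp [mem_H0, h]
theorem Z1_le_G2 : Z1 ≤ G2 := fun x h => by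
  rw [mem_Z1] at h; simp [mem_G2, h]
theorem Z1_le_Z3 : Z1 ≤ Z3 := fun x h => by
  rw [mem_Z1] at h; simp [mem_Z3, h]
theorem Z1_le_YY : Z1 ≤ YY := fun x h => by
  rw [mem_Z1] at h; simp [mem_YY, h]
theorem Z1_le_N2 : Z1 ≤ N2 := fun x h => by
  rw [mem_Z1] at h; simp [mem_N2, h]
theorem Z1_le_Z2 : Z1 ≤ Z2 := fun x h => by
  rw [mem_Z1] at h; simp [mem_Z2, h]

instance : E1.Normal := ⟨fun x hx t => by
  rw [mem_E1] at hx; simp [mem_E1, hx] <;> ring_nf <;> simp⟩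
instance : E2.Normal := ⟨fun x hx t => by
  rw [mem_E2] at hx; simp [mem_E2, hx] <;> ring_nf <;> simp⟩
instance : E3.Normal := ⟨fun x hx t => by
  rw [mem_E3] at hx; simp [mem_E3, hx] <;> ring_nf <;> simp⟩
instance : KK.Normal := ⟨fun x hx t => by
  rw [mem_KK] at hx; simp [mem_KK, hx] <;> ring_nf <;> simp⟩
instance : WW.Normal := ⟨fun x hx t => by
  rw [mem_WW] at hx; simp [mem_WW, hx] <;> ring_nf <;> simp⟩
instance : JJ.Normal := ⟨fun x hx t => by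
  rw [mem_JJ] at hx; simp [mem_JJ, hx] <;> ring_nf <;> simp⟩
instance : Z4.Normal := ⟨fun x hx t => by
  rw [mem_Z4] at hx; simp [mem_Z4, hx] <;> ring_nf <;> simp⟩
instance : H0.Normal := ⟨fun x hx t => by
  rw [mem_H0] at hx; simp [mem_H0, hx] <;> ring_nf <;> simp⟩
instance : G2.Normal := ⟨fun x hx t => by
  rw [mem_G2] at hx; simp [mem_G2, hx] <;> ring_nf <;> simp⟩
instance : Z3.Normal := ⟨fun x hx t => by
  rw [mem_Z3] at hx; simp [mem_Z3, hx] <;> ring_nf <;> simp⟩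
instance : YY.Normal := ⟨fun x hx t => by
  rw [mem_YY] at hx; simp [mem_YY, hx] <;> ring_nf <;> simp⟩
instance : N2.Normal := ⟨fun x hx t => by
  rw [mem_N2] at hx; simp [mem_N2, hx] <;> ring_nf <;> simp⟩
instance : Z2.Normal := ⟨fun x hx t => by
  rw [mem_Z2] at hx; simp [mem_Z2, hx] <;> ring_nf <;> simp⟩
instance : Z1.Normal := ⟨fun x hx t => by
  rw [mem_Z1] at hx; simp [mem_Z1, hx] <;> ring_nf <;> simp⟩

/-! root elements -/

@[simps] def xa (t : F3) : US := ⟨t, 0, 0, 0, 0, 0, 0, 0, 0⟩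
@[simps] def xb (t : F3) : US := ⟨0, t, 0, 0, 0, 0, 0, 0, 0⟩
@[simps] def xc (t : F3) : US := ⟨0, 0, t, 0, 0, 0, 0, 0, 0⟩
@[simps] def xd (t : F3) : US := ⟨0, 0, 0, t, 0, 0, 0, 0, 0⟩
@[simps] def xe (t : F3) : US := ⟨0, 0, 0, 0, t, 0, 0, 0, 0⟩
@[simps] def xf (t : F3) : US := ⟨0, 0, 0, 0, 0, t, 0, 0, 0⟩
@[simps] def xg (t : F3) : US := ⟨0, 0, 0, 0, 0, 0, t, 0, 0⟩
@[simps] def xh (t : F3) : US := ⟨0, 0, 0, 0, 0, 0, 0, t, 0⟩
@[simps] def xz (t : F3) : US := ⟨0, 0, 0, 0, 0, 0, 0, 0, t⟩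

theorem mem_of_gens {K : Subgroup US} {x : US} (ha : x.a = 0 ∨ xa 1 ∈ K) (hb : x.b = 0 ∨ xb 1 ∈ K)
    (hc : x.c = 0 ∨ xc 1 ∈ K) (hd : x.d = 0 ∨ xd 1 ∈ K) (he : x.e = 0 ∨ xe 1 ∈ K)
    (hf : x.f = 0 ∨ xf 1 ∈ K) (hg : x.g = 0 ∨ xg 1 ∈ K) (hh : x.h = 0 ∨ xh 1 ∈ K)
    (hz : x.z = 0 ∨ xz 1 ∈ K) : x ∈ K := by
  have key : ∀ (r : F3 → US) (t : F3), r 0 = 1 → r (-1) = (r 1)⁻¹ → (t = 0 ∨ r 1 ∈ K) → r t ∈ K :=
    fun r t h0 h1 h => by
      rcases f3_cases t with rfl | rfl | rfl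
      · rw [h0]; exact one_mem _
      · exact h.resolve_left (by decide)
      · rw [h1]; exact inv_mem (h.resolve_left (by decide))
  have : x = xc x.c * xe x.e * xf x.f * xg x.g * xh x.h * xz x.z * xd x.d * xb x.b * xa x.a := by
    ext <;> simp
  rw [this]
  exact mul_mem (mul_mem (mul_mem (mul_mem (mul_mem (mul_mem (mul_mem (mul_mem
    (key xc _ rfl (by decide) hc) (key xe _ rfl (by decide) he)) (key xf _ rfl (by decide) hf))
    (key xg _ rfl (by decide) hg)) (key xh _ rfl (by decide) hh)) (key xz _ rfl (by decide) hz))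
    (key xd _ rfl (by decide) hd)) (key xb _ rfl (by decide) hb)) (key xa _ rfl (by decide) ha)

theorem isPGroup_US : IsPGroup 3 US := fun x => by
  have h1 : x ^ 3 ∈ JJ := by
    simp [mem_JJ, pow_succ]
    refine ⟨?_, ?_, ?_⟩
    · linear_combination x.a * h3
    · linear_combination x.b * h3
    · linear_combination (x.d + x.a * x.b) * h3
  refine ⟨2, ?_⟩
  rw [pow_two, pow_mul]
  generalize x ^ 3 = y at h1
  obtain ⟨k1, k2, k3⟩ := h1
  ext <;> simp [pow_succ, k1, k2, k3]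
  · linear_combination y.c * h3
  · linear_combination y.e * h3
  · linear_combination y.f * h3
  · linear_combination y.g * h3
  · linear_combination y.h * h3
  · linear_combination y.z * h3

theorem isPGroup_top : IsPGroup 3 (⊤ : Subgroup US) := isPGroup_US.to_subgroup _

/-! the standard automorphisms -/

/-- diagonal automorphisms -/
@[simps] def tauF (p q r : F3) (x : US) : US :=
  ⟨p * x.a, q * x.b, r * x.c, p * q * x.d, q * r * x.e, p * q * r * x.f, q ^ 2 * r * x.g,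
    p * q ^ 2 * r * x.h, p ^ 2 * q ^ 2 * r * x.z⟩

/-- the central automorphism `c ↦ c z ^ k` -/
@[simps] def gam (k : F3) (x : US) : US := ⟨x.a, x.b, x.c, x.d, x.e, x.f, x.g, x.h, x.z + k * x.c⟩

/-- the (twisted) Weyl element on `E1` -/
@[simps] def n1 (k : F3) (x : US) : US :=
  ⟨0, -x.d, x.c, x.b, -x.f, x.e, x.z - k * x.c, -x.h, x.g + k * x.c⟩

/-- the (twisted) Weyl element on `E2` -/
@[simps] def n2 (k : F3) (x : US) : US :=
  ⟨x.d, 0, x.g, -x.a, -x.e, -x.h, x.c, x.f, x.z + k * (x.g - x.c)⟩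

/-- the Weyl element on `E3` -/
@[simps] def n3 (x : US) : US :=
  ⟨x.a, x.e, 0, x.f, -x.b, -x.d, x.g - 2 * x.b * x.e, x.h - x.b * x.f - x.d * x.e,
    x.z - 2 * x.d * x.f⟩

variable {x y : US}

theorem tauF_mul (p q r : F3) (x y : US) : tauF p q r (x * y) = tauF p q r x * tauF p q r y := by
  ext <;> simp <;> ring

theorem tauF_one (x : US) : tauF 1 1 1 x = x := by ext <;> simp

theorem tauF_tauF (p q r p' q' r' : F3) (x : US) :
    tauF p q r (tauF p' q' r' x) = tauF (p * p') (q * q') (r * r') x := by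
  ext <;> simp <;> ring

theorem tauF_tauF_self {p q r : F3} (hp : p ≠ 0) (hq : q ≠ 0) (hr : r ≠ 0) (x : US) :
    tauF p q r (tauF p q r x) = x := by
  rw [tauF_tauF, sq_of_ne hp, sq_of_ne hq, sq_of_ne hr, tauF_one]

theorem gam_mul (k : F3) (x y : US) : gam k (x * y) = gam k x * gam k y := by
  ext <;> simp <;> ring

theorem gam_gam (k l : F3) (x : US) : gam k (gam l x) = gam (k + l) x := by
  ext <;> simp <;> ring

theorem gam_zero (x : US) : gam 0 x = x := by ext <;> simp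

theorem n1_mem (k : F3) (x : US) : n1 k x ∈ E1 := rfl
theorem n2_mem (k : F3) (x : US) : n2 k x ∈ E2 := rfl
theorem n3_mem (x : US) : n3 x ∈ E3 := rfl

theorem n1_mul (k : F3) (hx : x ∈ E1) (hy : y ∈ E1) : n1 k (x * y) = n1 k x * n1 k y := by
  ext <;> simp [mem_E1.1 hx, mem_E1.1 hy] <;> ring

theorem n2_mul (k : F3) (hx : x ∈ E2) (hy : y ∈ E2) : n2 k (x * y) = n2 k x * n2 k y := by
  ext <;> simp [mem_E2.1 hx, mem_E2.1 hy] <;> ring

theorem n3_mul (hx : x ∈ E3) (hy : y ∈ E3) : n3 (x * y) = n3 x * n3 y := by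
  ext <;> simp [mem_E3.1 hx, mem_E3.1 hy] <;> ring

theorem n1_n1 (k : F3) (hx : x ∈ E1) : n1 k (n1 k x) = tauF 1 (-1) 1 x := by
  ext <;> simp [mem_E1.1 hx]

theorem n2_n2 (k : F3) (hx : x ∈ E2) : n2 k (n2 k x) = tauF (-1) 1 1 x := by
  ext <;> simp [mem_E2.1 hx]; ring

theorem n3_n3 (hx : x ∈ E3) : n3 (n3 x) = tauF 1 (-1) 1 x := by
  ext <;> simp [mem_E3.1 hx] <;> ring

/-- Every automorphism of `S` in the system is diagonal modulo inner automorphisms. -/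
def Std (F : FusionSystem (⊤ : Subgroup US)) : Prop :=
  ∀ f, F.IsIso ⊤ ⊤ f → ∃ (s : US) (p q r : F3), p ≠ 0 ∧ q ≠ 0 ∧ r ≠ 0 ∧
    ∀ x, f x = s * tauF p q r x * s⁻¹

end Cfsg.Agent.C3
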