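import Cfsg.Agent.Lib.C3.Defs

/-!
# S5227: the interface of the models (see notes/C3.md)
-/

set_option autoImplicit false

namespace Cfsg.Agent.C3

open Subgroup Cfsg

/-- What is needed of a finite group `G` containing `S`. -/
structure Mod (k : F3) (Γ : Prop) {G : Type*} [Group G] (ι : US →* G) : Prop where
  inj : Function.Injective ι
  m1 : ∃ g, ∀ x ∈ E1, ι (n1 k x) = g * ι x * g⁻¹
  m2 : ∃ g, ∀ x ∈ E2, ι (n2 0 x) = g * ι x * g⁻¹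
  m3 : ∃ g, ∀ x ∈ E3, ι (n3 x) = g * ι x * g⁻¹
  t1 : ∃ g, ∀ x, ι (tauF 1 (-1) 1 x) = g * ι x * g⁻¹
  t2 : ∃ g, ∀ x, ι (tauF (-1) 1 1 x) = g * ι x * g⁻¹
  t3 : Γ → ∃ g, ∀ x, ι (tauF 1 1 (-1) x) = g * ι x * g⁻¹
  nz : ¬ Γ → ¬ IsConj (ι (xz 1)) (ι (xz (-1)))
  cent : ∀ (g : G) (n : ℕ), g ^ 3 ^ n = 1 → (∀ x ∈ JJ, g * ι x = ι x * g) → g ∈ ι.range
  nc : ¬ IsConj (ι (xc 1)) (ι (xc 1 * xz 1))

/-- A relation `f x = g * ι x * g⁻¹` between homomorphisms only has to be checked on root elements. -/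
theorem conj_of_gens {G : Type*} [Group G] {ι : US →* G} {R : Subgroup US} {f : US → US} {g : G}
    (hf : ∀ x ∈ R, ∀ y ∈ R, f (x * y) = f x * f y) {x : US} (hx : x ∈ R)
    (h : ∀ r : F3 → US, r ∈ [xa, xb, xc, xd, xe, xf, xg, xh, xz] → r 1 ∈ R →
      ι (f (r 1)) * g = g * ι (r 1))
    (ha : x.a = 0 ∨ xa 1 ∈ R) (hb : x.b = 0 ∨ xb 1 ∈ R)
    (hc : x.c = 0 ∨ xc 1 ∈ R) (hd : x.d = 0 ∨ xd 1 ∈ R) (he : x.e = 0 ∨ xe 1 ∈ R)
    (hf' : x.f = 0 ∨ xf 1 ∈ R) (hg : x.g = 0 ∨ xg 1 ∈ R) (hh : x.h = 0 ∨ xh 1 ∈ R)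
    (hz : x.z = 0 ∨ xz 1 ∈ R) : ι (f x) = g * ι x * g⁻¹ := by
  have h1 : f 1 = 1 := by simpa using hf 1 (one_mem _) 1 (one_mem _)
  let K : Subgroup US :=
    { carrier := {x | x ∈ R ∧ ι (f x) * g = g * ι x}
      one_mem' := ⟨one_mem _, by simp [h1]⟩
      mul_mem' := fun {x y} hx hy => ⟨mul_mem hx.1 hy.1, by
        rw [hf x hx.1 y hy.1, map_mul, map_mul, mul_assoc, hy.2, ← mul_assoc, hx.2, mul_assoc]⟩
      inv_mem' := fun {x} hx => ⟨inv_mem hx.1, by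
        have e : f x⁻¹ = (f x)⁻¹ := eq_inv_of_mul_eq_one_left (by
          rw [← hf _ (inv_mem hx.1) _ hx.1, inv_mul_cancel, h1])
        rw [e, map_inv, map_inv, inv_mul_eq_iff_eq_mul, ← mul_assoc, hx.2, mul_inv_cancel_right]⟩ }
  have k : ∀ (r : F3 → US) {t : F3}, r ∈ [xa, xb, xc, xd, xe, xf, xg, xh, xz] →
      (t = 0 ∨ r 1 ∈ R) → t = 0 ∨ r 1 ∈ K := fun r t hr e => e.imp id fun e => ⟨e, h r hr e⟩
  have : x ∈ K := mem_of_gens (k _ (by simp) ha) (k _ (by simp) hb) (k _ (by simp) hc)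
    (k _ (by simp) hd) (k _ (by simp) he) (k _ (by simp) hf') (k _ (by simp) hg)
    (k _ (by simp) hh) (k _ (by simp) hz)
  rw [← this.2, mul_inv_cancel_right]

end Cfsg.Agent.C3
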