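import Cfsg.Agent.Lib.C3.Mod

/-!
# S5227: the models `Sp₆(3)` and `GSp₆(3)` (see notes/C3.md, section Sp)
-/

set_option autoImplicit false
set_option maxHeartbeats 1600000
set_option linter.unusedSimpArgs false
set_option linter.unnecessarySeqFocus false
set_option linter.unusedTactic false
set_option linter.unreachableTactic false

namespace Cfsg.Agent.C3

open Subgroup Cfsg Matrix

abbrev M6 := Matrix (Fin 6) (Fin 6) F3

def spΩ : M6 := !![0, 0, 0, 1, 0, 0; 0, 0, 0, 0, 1, 0; 0, 0, 0, 0, 0, 1;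
  -1, 0, 0, 0, 0, 0; 0, -1, 0, 0, 0, 0; 0, 0, -1, 0, 0, 0]

def spM (x : US) : M6 :=
  !![1, x.a, x.d, x.z - x.a * x.h - x.d * x.f + x.a * x.b * x.f, x.h - x.b * x.f, x.f;
    0, 1, x.b, x.h - x.a * x.g - x.d * x.e + x.a * x.b * x.e, x.g - x.b * x.e, x.e;
    0, 0, 1, x.f - x.a * x.e - x.c * x.d + x.a * x.b * x.c, x.e - x.b * x.c, x.c;
    0, 0, 0, 1, 0, 0; 0, 0, 0, -x.a, 1, 0; 0, 0, 0, x.a * x.b - x.d, -x.b, 1]

def spH : US →* M6 where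
  toFun := spM
  map_one' := by decide +kernel
  map_mul' x y := by
    ext i j
    fin_cases i <;> fin_cases j <;> simp [spM, mul_apply, Fin.sum_univ_six] <;> ring

theorem spM_form (x : US) : (spM x)ᵀ * spΩ * spM x = (1 : F3) • spΩ := by
  ext i j
  fin_cases i <;> fin_cases j <;> simp [spM, spΩ, mul_apply, Fin.sum_univ_six] <;> ring

/-- the symplectic group, or the group of similitudes -/
def spG (Γ : Prop) : Subgroup M6ˣ where
  carrier := {g | ∃ ε : F3, (ε = 1 ∨ Γ ∧ ε = -1) ∧ (g : M6)ᵀ * spΩ * g = ε • spΩ}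
  one_mem' := ⟨1, .inl rfl, by simp⟩
  mul_mem' := by
    rintro g h ⟨ε, h1, h2⟩ ⟨δ, h3, h4⟩
    refine ⟨ε * δ, by rcases h1 with rfl | ⟨h, rfl⟩ <;> rcases h3 with rfl | ⟨h', rfl⟩ <;> simp [*],
      ?_⟩
    rw [Units.val_mul, transpose_mul, show (h : M6)ᵀ * (g : M6)ᵀ * spΩ * ((g : M6) * h) =
      (h : M6)ᵀ * ((g : M6)ᵀ * spΩ * g) * h by simp only [Matrix.mul_assoc], h2, Matrix.mul_smul,
      Matrix.smul_mul, h4, smul_smul]
  inv_mem' := by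
    rintro g ⟨ε, h1, h2⟩
    refine ⟨ε, h1, ?_⟩
    have e : ε * ε = 1 := by rcases h1 with rfl | ⟨-, rfl⟩ <;> simp
    have := congrArg (fun m => ε • (((g⁻¹ : M6ˣ) : M6)ᵀ * m * (g⁻¹ : M6ˣ))) h2
    simp only [Matrix.mul_smul, Matrix.smul_mul, smul_smul, e, one_smul] at this
    rw [← this, ← Matrix.mul_assoc, ← Matrix.mul_assoc, ← transpose_mul, Units.mul_inv,
      transpose_one, Matrix.one_mul, Matrix.mul_assoc, Units.mul_inv, Matrix.mul_one]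

def spι (Γ : Prop) : US →* spG Γ :=
  spH.toHomUnits.codRestrict _ fun x => ⟨1, .inl rfl, spM_form x⟩

theorem sp_conj {Γ : Prop} (A B : M6) (h1 : A * B = 1) (h2 : B * A = 1) (ε : F3)
    (h3 : ε = 1 ∨ Γ ∧ ε = -1) (h4 : Aᵀ * spΩ * A = ε • spΩ) :
    ∃ g : spG Γ, ∀ x y, spM y * A = A * spM x → spι Γ y = g * spι Γ x * g⁻¹ :=
  ⟨⟨⟨A, B, h1, h2⟩, ε, h3, h4⟩, fun _ _ h => eq_mul_inv_of_mul_eq (Subtype.ext (Units.ext h))⟩

theorem sp_isConj {Γ : Prop} {x y : US} (h : IsConj (spι Γ x) (spι Γ y)) :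
    ∃ c : spG Γ, (c.1 : M6) * spM x = spM y * c.1 :=
  let ⟨c, h⟩ := isConj_iff.1 h
  ⟨c, congrArg (fun g : spG Γ => (g.1 : M6)) (mul_inv_eq_iff_eq_mul.1 h)⟩

theorem sp_cent {g : M6} {n : ℕ} {ε : F3} (hn : g ^ 3 ^ n = 1) (hf : gᵀ * spΩ * g = ε • spΩ)
    (h : ∀ x ∈ JJ, g * spM x = spM x * g) : ∃ x, spM x = g := by
  have k1 := h (xz 1) ⟨rfl, rfl, rfl⟩
  have k2 := h (xg 1) ⟨rfl, rfl, rfl⟩
  have k3 := h (xc 1) ⟨rfl, rfl, rfl⟩
  have k4 := congrFun (congrFun (h (xh 1) ⟨rfl, rfl, rfl⟩) 0) 4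
  have k5 := congrFun (congrFun (h (xe 1) ⟨rfl, rfl, rfl⟩) 1) 5
  simp [← Matrix.ext_iff, Fin.forall_fin_succ, spM, mul_apply, Fin.sum_univ_six, vecMul,
    dotProduct] at k1 k2 k3 k4 k5
  have h0 : ∀ m : ℕ, (g ^ m) 0 0 = g 0 0 ^ m := fun m => by
    induction m with
    | zero => simp
    | succ m ih => simp [pow_succ, mul_apply, Fin.sum_univ_six, k1, ih]
  have h1 : g 0 0 = 1 := by
    have := h0 (3 ^ n)
    rwa [hn, ZMod.pow_card_pow, eq_comm] at this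
  have f0 := congrFun (congrFun hf 0) 3
  have f1 := congrFun (congrFun hf 3) 4
  have f2 := congrFun (congrFun hf 3) 5
  have f3 := congrFun (congrFun hf 4) 5
  simp [spΩ, mul_apply, Fin.sum_univ_six] at f0 f1 f2 f3
  refine ⟨⟨0, 0, g 2 5, 0, g 1 5, g 0 5, g 1 4, g 0 4, g 0 3⟩, ?_⟩
  ext i j
  fin_cases i <;> fin_cases j <;> simp [spM] <;> grind

theorem spM_inj {x y : US} (e : spM x = spM y) : x = y := by
  have k := fun i j => congrFun (congrFun e i) j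
  have a : x.a = y.a := k 0 1
  have b : x.b = y.b := k 1 2
  have d : x.d = y.d := k 0 2
  have e : x.e = y.e := k 1 5
  have f : x.f = y.f := k 0 5
  have h : x.h = y.h := by simpa [spM, b, f] using k 0 4
  exact US.ext a b (k 2 5) d e f (by simpa [spM, b, e] using k 1 4) h
    (by simpa [spM, a, b, d, f, h] using k 0 3)

theorem sp_nc {c d : M6} (h : c * d = 1) (e : c * spM (xc 1) = spM (xc 1 * xz 1) * c) : False := by
  have f0 := congrFun (congrFun h 3) 3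
  have f1 := congrFun (congrFun h 5) 3
  have f2 := congrFun (congrFun h 5) 5
  simp [← Matrix.ext_iff, Fin.forall_fin_succ, spM, mul_apply, Fin.sum_univ_six, vecMul,
    dotProduct] at e
  simp only [mul_apply, Fin.sum_univ_six] at f0 f1 f2
  simp [e.1, e.2.2.1] at f0 f1 f2
  rcases f1 with f1 | f1
  · simp [f1] at f2
  · simp [f1] at f0

theorem exists_sp (Γ : Prop) :
    ∃ (G : Type) (_ : Group G) (_ : Finite G) (ι : US →* G), Mod 0 Γ ι := by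
  refine ⟨spG Γ, inferInstance, inferInstance, spι Γ, fun x y h => ?_, ?_, ?_, ?_, ?_, ?_,
    fun hΓ => ?_, fun hΓ h => ?_, fun g n hn h => ?_, fun h => ?_⟩
  · exact spM_inj (congrArg (fun g : spG Γ => (g.1 : M6)) h)
  · obtain ⟨g, h⟩ := sp_conj (Γ := Γ) !![0, 1, 0, 0, 0, 0; -1, 0, 0, 0, 0, 0; 0, 0, 1, 0, 0, 0;
      0, 0, 0, 0, 1, 0; 0, 0, 0, -1, 0, 0; 0, 0, 0, 0, 0, 1] !![0, -1, 0, 0, 0, 0; 1, 0, 0, 0, 0, 0;
      0, 0, 1, 0, 0, 0; 0, 0, 0, 0, -1, 0; 0, 0, 0, 1, 0, 0; 0, 0, 0, 0, 0, 1] (by decide +kernel)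
      (by decide +kernel) 1 (.inl rfl) (by decide +kernel)
    refine ⟨g, fun x hx => h _ _ ?_⟩
    ext i j
    fin_cases i <;> fin_cases j <;> simp [spM, mul_apply, Fin.sum_univ_six, mem_E1.1 hx] <;> ring
  · obtain ⟨g, h⟩ := sp_conj (Γ := Γ) !![1, 0, 0, 0, 0, 0; 0, 0, 1, 0, 0, 0;
      0, -1, 0, 0, 0, 0; 0, 0, 0, 1, 0, 0; 0, 0, 0, 0, 0, 1; 0, 0, 0, 0, -1, 0] !![1, 0, 0, 0, 0, 0;
      0, 0, -1, 0, 0, 0; 0, 1, 0, 0, 0, 0; 0, 0, 0, 1, 0, 0; 0, 0, 0, 0, 0, -1; 0, 0, 0, 0, 1, 0] (by decide +kernel)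
      (by decide +kernel) 1 (.inl rfl) (by decide +kernel)
    refine ⟨g, fun x hx => h _ _ ?_⟩
    ext i j
    fin_cases i <;> fin_cases j <;> simp [spM, mul_apply, Fin.sum_univ_six, mem_E2.1 hx] <;> ring
  · obtain ⟨g, h⟩ := sp_conj (Γ := Γ) !![1, 0, 0, 0, 0, 0; 0, 1, 0, 0, 0, 0; 0, 0, 0, 0, 0, 1;
      0, 0, 0, 1, 0, 0; 0, 0, 0, 0, 1, 0; 0, 0, -1, 0, 0, 0] !![1, 0, 0, 0, 0, 0; 0, 1, 0, 0, 0, 0;
      0, 0, 0, 0, 0, -1; 0, 0, 0, 1, 0, 0; 0, 0, 0, 0, 1, 0; 0, 0, 1, 0, 0, 0] (by decide +kernel)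
      (by decide +kernel) 1 (.inl rfl) (by decide +kernel)
    refine ⟨g, fun x hx => h _ _ ?_⟩
    ext i j
    fin_cases i <;> fin_cases j <;> simp [spM, mul_apply, Fin.sum_univ_six, mem_E3.1 hx] <;> ring
  · obtain ⟨g, h⟩ := sp_conj (Γ := Γ) (diagonal ![1, 1, -1, 1, 1, -1]) (diagonal ![1, 1, -1, 1, 1, -1])
      (by decide +kernel) (by decide +kernel) 1 (.inl rfl) (by decide +kernel)
    refine ⟨g, fun x => h _ _ ?_⟩
    ext i j
    fin_cases i <;> fin_cases j <;> simp [spM] <;> ring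
  · obtain ⟨g, h⟩ := sp_conj (Γ := Γ) (diagonal ![-1, 1, 1, -1, 1, 1]) (diagonal ![-1, 1, 1, -1, 1, 1])
      (by decide +kernel) (by decide +kernel) 1 (.inl rfl) (by decide +kernel)
    refine ⟨g, fun x => h _ _ ?_⟩
    ext i j
    fin_cases i <;> fin_cases j <;> simp [spM] <;> ring
  · obtain ⟨g, h⟩ := sp_conj (Γ := Γ) (diagonal ![1, 1, 1, -1, -1, -1])
      (diagonal ![1, 1, 1, -1, -1, -1]) (by decide +kernel) (by decide +kernel) (-1) (.inr ⟨hΓ, rfl⟩)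
      (by decide +kernel)
    refine ⟨g, fun x => h _ _ ?_⟩
    ext i j
    fin_cases i <;> fin_cases j <;> simp [spM] <;> ring
  · obtain ⟨⟨c, ε, h1, h2⟩, e⟩ := sp_isConj h
    obtain rfl := h1.resolve_right fun h => hΓ h.1
    have f0 := congrFun (congrFun h2 0) 3
    simp [← Matrix.ext_iff, Fin.forall_fin_succ, spM, mul_apply, Fin.sum_univ_six, vecMul,
    dotProduct] at e
    simp [spΩ, mul_apply, Fin.sum_univ_six, e] at f0
    have : ∀ t : F3, t * t ≠ -1 := by decide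
    exact this ((c : M6) 3 3) (by grind)
  · obtain ⟨ε, -, h2⟩ := g.2
    obtain ⟨x, hx⟩ := sp_cent (n := n) (congrArg (fun g : spG Γ => (g.1 : M6)) hn) h2
      fun x hx => congrArg (fun g : spG Γ => (g.1 : M6)) (h x hx)
    exact ⟨x, Subtype.ext (Units.ext hx)⟩
  · obtain ⟨⟨c, hc⟩, e⟩ := sp_isConj h
    exact sp_nc c.mul_inv e

end Cfsg.Agent.C3
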